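import Mathlib
import Cfsg.Agent.Lib.Helper13.S5955.Defs2
import Cfsg.Agent.Lib.helper14.JTc
import Cfsg.Agent.Lib.helper14.JTb

set_option autoImplicit false

/-!
# Project S5956U (designer helper11): unipotent isometries of a non-degenerate alternating space
(part (i) `r = p > 2` of S5956, both directions).  Definitions shared by all rows.
Context: `SCtx p B x` of `Cfsg.Agent.Lib.Helper13.S5955` (`B` alternating non-degenerate, `x` isometry, `x ^ p = 1`),
`CharP F p`, so `(x - 1) ^ p = 0`.
-/

namespace Cfsg.Agent.Lib.Helper11.S5956U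

open Polynomial Module Cfsg.Agent.Lib.Helper13.S5955

variable {F : Type*} [Field F] {V : Type*} [AddCommGroup V] [Module F V]

/-- relative kernel dimensions: `dim (ker (x - 1)^k ∩ N)`
(`= Cfsg.Agent.Lib.helper14.JTa.dk ((x - 1).restrict _) k` by `dk_restrict`) -/
noncomputable def rdk (x : Module.End F V) (N : Submodule F V) (k : ℕ) : ℕ :=
  finrank F ↥(LinearMap.ker ((x - 1) ^ k) ⊓ N : Submodule F V)

/-- the kernel-dimension function of a nilpotent endomorphism of Jordan type `μ` -/
def tyf (μ : Multiset ℕ) (k : ℕ) : ℕ := (μ.map (fun b => min b k)).sum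

/-- admissible symplectic unipotent type: parts in `(0, p]`, odd parts of even multiplicity -/
def SpTy (p : ℕ) (μ : Multiset ℕ) : Prop :=
  (∀ a ∈ μ, 0 < a ∧ a ≤ p) ∧ ∀ a : ℕ, Odd a → Even (μ.count a)

/-- non-degenerate in the form of the frozen statement S5956 -/
def FND (d : ℕ) (W : Submodule F (Fin d ⊕ Fin d → F)) : Prop :=
  ∀ u ∈ W, u ≠ 0 → ∃ v ∈ W, Cfsg.sympForm d F u v ≠ 0

end Cfsg.Agent.Lib.Helper11.S5956U

namespace Cfsg.Agent.Lib.Helper11.S5956U

open Polynomial Module Cfsg.Agent.Lib.Helper13.S5955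

/-- the span of `(x - 1)^a (u i)`, `a < s`, `i < t` (the `F[x]`-submodule generated by the `u i`
when `(x - 1)^s` kills them) -/
def cycU {F : Type*} [Field F] {V : Type*} [AddCommGroup V] [Module F V]
    (x : Module.End F V) (s : ℕ) {t : ℕ} (u : Fin t → V) : Submodule F V :=
  Submodule.span F (Set.range fun ia : Fin t × Fin s => ((x - 1) ^ (ia.2 : ℕ)) (u ia.1))

/-- shape of an indecomposable piece: a single even block or a pair of equal odd blocks -/
def PieceTy (τ : Multiset ℕ) : Prop :=
  (∃ s : ℕ, Even s ∧ τ = {s}) ∨ (∃ s : ℕ, Odd s ∧ τ = {s, s})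

end Cfsg.Agent.Lib.Helper11.S5956U
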